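import Cfsg.Agent.S2601
import Cfsg.Agent.S2140
import Cfsg.Agent.S0249
import Cfsg.Agent.H124.LinCyc
import Cfsg.Agent.H743.MeetRank
import Cfsg.Agent.H100.AltSyl.PslPts

/-!
# `Meet 3 (PSL₃(q))`, `q ≡ 2 mod 3` (task 1595, helper621)
-/

set_option autoImplicit false

namespace Cfsg.Agent.H621.MeetPSLThree

open Matrix Cfsg Cfsg.Agent.H903.SylMeet

variable {F : Type} [Field F] [Fintype F]

/-- `q ≡ 2 mod 3` -/
theorem mod_three (h3 : (3 : F) ≠ 0) (h : ¬ 3 ∣ Fintype.card F - 1) : Fintype.card F % 3 = 2 := by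
  have h1 : 1 < Fintype.card F := Fintype.one_lt_card
  have h2 : ¬ 3 ∣ Fintype.card F := by
    intro hd
    obtain ⟨p, hch⟩ := CharP.exists F
    obtain ⟨k, hp, hk⟩ := FiniteField.card F p
    rw [hk] at hd
    have h4 := (Nat.prime_dvd_prime_iff_eq Nat.prime_three hp).1 (Nat.prime_three.dvd_of_dvd_pow hd)
    subst h4
    apply h3
    exact_mod_cast CharP.cast_eq_zero F 3
  omega

theorem iff_even {q : ℕ} (h : q % 3 = 2) (j : ℕ) : 3 ∣ q ^ j - 1 ↔ 2 ∣ j := by
  have h1 : 1 ≤ q ^ j := Nat.one_le_pow _ _ (by omega)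
  have h2 : 3 ∣ q ^ j - 1 ↔ q ^ j % 3 = 1 := by omega
  rw [h2, Nat.pow_mod, h]
  rcases Nat.even_or_odd' j with ⟨k, rfl | rfl⟩
  · have : 2 ^ (2 * k) % 3 = 1 := by
      rw [pow_mul, Nat.pow_mod]
      norm_num
    rw [this]
    simp
  · have : 2 ^ (2 * k + 1) % 3 = 2 := by
      rw [pow_succ, pow_mul, Nat.mul_mod, Nat.pow_mod]
      norm_num
    rw [this]
    constructor
    · intro h; omega
    · intro h; omega

theorem cyc (h : Fintype.card F % 3 = 2) (R : Subgroup (ProjectiveSpecialLinearGroup (Fin 3) F)) (hR : IsPGroup 3 R) :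
    IsCyclic R := by
  have hf : Fact (Nat.Prime 3) := ⟨Nat.prime_three⟩
  obtain ⟨P, hP⟩ := hR.exists_le_sylow
  have h1 : IsCyclic P := Cfsg.Agent.H124.LinCyc.isCyclic_sylow_of_gl (F := F) (ι := Fin 3) (p := 3) (e := 2) (by norm_num)
    (by norm_num) (iff_even h) (by simp) (SpecialLinearGroup.toGL (n := Fin 3) (R := F))
    (SpecialLinearGroup.toGL_injective) (QuotientGroup.mk' (Subgroup.center (SpecialLinearGroup (Fin 3) F)))
    (QuotientGroup.mk'_surjective _) P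
  exact isCyclic_of_injective (Subgroup.inclusion hP) (Subgroup.inclusion_injective hP)

/-- **`Meet 3 (PSL₃(q))`, `q ≡ 2 mod 3`.** -/
theorem meet3_PSL3_ab (h3 : (3 : F) ≠ 0) (h : ¬ 3 ∣ Fintype.card F - 1) :
    Cfsg.Agent.H903.SylMeet.Meet 3 (Matrix.ProjectiveSpecialLinearGroup (Fin 3) F) := by
  have hf : Fact (Nat.Prime 3) := ⟨Nat.prime_three⟩
  have hmod := mod_three h3 h
  have hs : IsSimpleGroup (ProjectiveSpecialLinearGroup (Fin 3) F) := Cfsg.Agent.S0249.result 3 (le_refl 3)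
  obtain ⟨p, hch⟩ := CharP.exists F
  obtain ⟨k, hp, hk⟩ := FiniteField.card F p
  have hFp : Fact p.Prime := ⟨hp⟩
  have hk1 : 1 ≤ (k : ℕ) := k.2
  obtain ⟨φ, hφ, -, hker⟩ := Cfsg.Agent.S2601.result (F := F) (n := 3) hk1 hk (le_refl 3)
  have hg : Nat.gcd 3 (p ^ (k : ℕ) - 1) = 1 := by
    rw [← hk]
    exact (Nat.Prime.coprime_iff_not_dvd Nat.prime_three).2 h
  rw [hg, Subgroup.card_eq_one] at hker
  have hNZ : NeZero (k : ℕ) := ⟨k.ne_zero⟩
  let χ : MulAut (ProjectiveSpecialLinearGroup (Fin 3) F) →* Multiplicative (ZMod (k : ℕ)) :=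
    ((AddMonoidHom.fst (ZMod (k : ℕ)) (ZMod 2)).toMultiplicative).comp
      (φ.comp (QuotientGroup.mk' (Cfsg.Inn (ProjectiveSpecialLinearGroup (Fin 3) F))))
  have hχ : ∀ a : MulAut (ProjectiveSpecialLinearGroup (Fin 3) F), (∃ k, a ^ 3 ^ k = 1) → χ a = 1 →
      ∃ t, MulAut.conj t = a := by
    rintro a ⟨j, hj⟩ ha
    have h1 : (φ (QuotientGroup.mk a)).toAdd.1 = 0 := congrArg Multiplicative.toAdd ha
    have h2 : (φ (QuotientGroup.mk a)).toAdd.2 = 0 := by
      have h4 : (φ (QuotientGroup.mk a)) ^ 3 ^ j = 1 := by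
        rw [← map_pow, ← QuotientGroup.mk_pow, hj]
        exact map_one φ
      have h5 : (3 ^ j) • (φ (QuotientGroup.mk a)).toAdd.2 = 0 :=
        congrArg (fun z => (Multiplicative.toAdd z).2) h4
      have h6 : ∀ z : ZMod 2, ∀ n : ℕ, Odd n → n • z = 0 → z = 0 := by
        intro z n hn hz
        obtain ⟨m, rfl⟩ := hn
        rw [add_smul, mul_comm, mul_smul, one_smul] at hz
        have h7 : ∀ y : ZMod 2, 2 • y = 0 := by decide
        rwa [h7, smul_zero, zero_add] at hz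
      exact h6 _ _ (Odd.pow (by decide)) h5
    have h4 : φ (QuotientGroup.mk a) = 1 := by
      apply Multiplicative.toAdd.injective
      exact Prod.ext h1 h2
    have h5 : (QuotientGroup.mk a : Cfsg.Out (ProjectiveSpecialLinearGroup (Fin 3) F)) ∈ φ.ker := h4
    rw [hker, Subgroup.mem_bot, QuotientGroup.eq_one_iff] at h5
    exact h5
  have hT : ¬ IsMulCommutative (ProjectiveSpecialLinearGroup (Fin 3) F) := fun hc =>
    Cfsg.Agent.H100.AltSyl.psl_not_comm (ι := Fin 3) (F := F) hc.is_comm.comm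
  by_cases hC : 3 ∣ (k : ℕ)
  · refine Cfsg.Agent.H743.MeetRank.meet_rank_one (p := 3) (by norm_num) hT χ hχ (fun R hR => cyc hmod R hR)
      (Cfsg.Agent.S2140.result (F := F) rfl 3 (le_refl 3) (by omega)).1 ?_
    intro _ _
    have h8 : 8 ≤ Fintype.card F := by
      obtain ⟨j, hj⟩ := hC
      have hj1 : 1 ≤ j := by
        rcases Nat.eq_zero_or_pos j with h0 | h0
        · rw [h0] at hj; omega
        · exact h0
      rw [hk]
      calc 8 = 2 ^ 3 := by norm_num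
        _ ≤ p ^ 3 := Nat.pow_le_pow_left hp.two_le 3
        _ ≤ p ^ (k : ℕ) := Nat.pow_le_pow_right hp.pos (by omega)
    generalize Fintype.card F = q at h8
    rw [Nat.lt_iff_add_one_le, Nat.le_div_iff_mul_le (by omega)]
    obtain ⟨x, rfl⟩ : ∃ x, q = x + 8 := ⟨q - 8, by omega⟩
    have h9 : (x + 8) ^ 3 = x ^ 3 + 24 * x ^ 2 + 192 * x + 512 := by ring
    have h10 : x + 8 - 1 = x + 7 := by omega
    rw [h9, h10]
    omega
  · refine Cfsg.Agent.H743.MeetRank.meet_rank_one (p := 3) (by norm_num) hT χ hχ (fun R hR => cyc hmod R hR) (m := 0)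
      (fun H _ => Nat.zero_le _) ?_
    intro h1
    rw [Nat.card_congr Multiplicative.toAdd, Nat.card_zmod] at h1
    exact absurd h1 hC

end Cfsg.Agent.H621.MeetPSLThree
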